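import Mathlib.Algebra.TrivSqZeroExt.Basic
import Mathlib.RingTheory.Localization.Away.Basic
import Mathlib.RingTheory.Kaehler.Basic
import Mathlib.Algebra.MvPolynomial.Derivation
import Mathlib.RingTheory.Unramified.Basic

/-!
Derivations out of localisations and quotients of polynomial rings.
-/

set_option autoImplicit false

open TrivSqZeroExt

namespace NodeDiffLib

variable {V : Type*} [CommRing V]

/-- A derivation from a lift of the structure map to the trivial square-zero extension. -/
def derivOfLift {B R : Type*} [CommRing B] [CommRing R] [Algebra V B] [Algebra V R] [Algebra B R]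
    [IsScalarTower V B R] (φ : B →ₐ[V] TrivSqZeroExt R R) (h : ∀ b, (φ b).fst = algebraMap B R b) :
    Derivation V B R :=
  Derivation.mk'
    { toFun := fun b => (φ b).snd
      map_add' := fun a b => by simp
      map_smul' := fun c b => by simp }
    fun a b => by
      simp only [LinearMap.coe_mk, AddHom.coe_mk, map_mul, snd_mul, h, Algebra.smul_def,
        op_smul_eq_smul, Algebra.algebraMap_self, RingHom.id_apply]

@[simp]
lemma derivOfLift_apply {B R : Type*} [CommRing B] [CommRing R] [Algebra V B] [Algebra V R]
    [Algebra B R] [IsScalarTower V B R] (φ : B →ₐ[V] TrivSqZeroExt R R)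
    (h : ∀ b, (φ b).fst = algebraMap B R b) (b : B) : derivOfLift φ h b = (φ b).snd := rfl

/-- Derivations out of a localisation agree as soon as they agree on the ring. -/
lemma derivation_eq_of_localization {A B N : Type*} [CommRing A] [CommRing B] [Algebra V A]
    [Algebra V B] [Algebra A B] [IsScalarTower V A B] (S : Submonoid A) [IsLocalization S B]
    [AddCommGroup N] [Module B N] [Module V N] (D₁ D₂ : Derivation V B N)
    (h : ∀ a, D₁ (algebraMap A B a) = D₂ (algebraMap A B a)) : D₁ = D₂ := by
  ext z
  obtain ⟨⟨a, s⟩, hz⟩ := IsLocalization.surj S z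
  have h1 := congrArg D₁ hz
  have h2 := congrArg D₂ hz
  simp only [Derivation.leibniz, h] at h1 h2
  have h3 : algebraMap A B (s : A) • D₁ z = algebraMap A B (s : A) • D₂ z :=
    add_left_cancel (h1.trans h2.symm)
  exact (IsLocalization.map_units B s).smul_left_cancel.mp h3

/-- The lift to the trivial square-zero extension attached to a derivation. -/
def liftOfDeriv {A R : Type*} [CommRing A] [CommRing R] [Algebra V A] [Algebra V R] [Algebra A R]
    [IsScalarTower V A R] (D : Derivation V A R) : A →ₐ[V] TrivSqZeroExt R R where
  toFun a := inl (algebraMap A R a) + inr (D a)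
  map_one' := by ext <;> simp
  map_mul' a b := by ext <;> simp [Derivation.leibniz, Algebra.smul_def, mul_comm]
  map_zero' := by ext <;> simp
  map_add' a b := by ext <;> simp
  commutes' c := by
    ext <;> simp [← IsScalarTower.algebraMap_apply, TrivSqZeroExt.algebraMap_eq_inl']

@[simp]
lemma fst_liftOfDeriv {A R : Type*} [CommRing A] [CommRing R] [Algebra V A] [Algebra V R]
    [Algebra A R] [IsScalarTower V A R] (D : Derivation V A R) (a : A) :
    (liftOfDeriv D a).fst = algebraMap A R a := by simp [liftOfDeriv]

@[simp]
lemma snd_liftOfDeriv {A R : Type*} [CommRing A] [CommRing R] [Algebra V A] [Algebra V R]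
    [Algebra A R] [IsScalarTower V A R] (D : Derivation V A R) (a : A) :
    (liftOfDeriv D a).snd = D a := by simp [liftOfDeriv]

/-- Extend a lift to a localisation and read off the derivation. -/
lemma exists_deriv_of_lift {A B R : Type*} [CommRing A] [CommRing B] [CommRing R] [Algebra V A]
    [Algebra V B] [Algebra V R] [Algebra A B] [Algebra B R] [IsScalarTower V A B]
    [IsScalarTower V B R] (S : Submonoid A) [IsLocalization S B]
    (φ₀ : A →ₐ[V] TrivSqZeroExt R R)
    (h0 : ∀ a, (φ₀ a).fst = algebraMap B R (algebraMap A B a)) :
    ∃ D : Derivation V B R, ∀ a, D (algebraMap A B a) = (φ₀ a).snd := by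
  have hu : ∀ s : S, IsUnit (φ₀ s) := fun s => by
    rw [isUnit_iff_isUnit_fst, h0]
    exact (IsLocalization.map_units B s).map _
  let φ : B →ₐ[V] TrivSqZeroExt R R := IsLocalization.liftAlgHom (M := S) (f := φ₀) hu
  have hφ : ∀ a, φ (algebraMap A B a) = φ₀ a := fun a => by
    simp [φ, IsLocalization.liftAlgHom]
  have hfst : (fstHom V R R).comp φ = IsScalarTower.toAlgHom V B R := by
    refine IsLocalization.algHom_ext S ?_
    ext a
    simp [hφ, fstHom, h0, Algebra.algHom]
  refine ⟨derivOfLift φ fun b => ?_, fun a => ?_⟩
  · simpa [fstHom] using DFunLike.congr_fun hfst b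
  · rw [derivOfLift_apply, hφ]

/-- A derivation with values in the ring extends to a localisation. -/
lemma exists_extend {A B : Type*} [CommRing A] [CommRing B] [Algebra V A] [Algebra V B]
    [Algebra A B] [IsScalarTower V A B] (S : Submonoid A) [IsLocalization S B]
    (D : Derivation V A A) :
    ∃ D' : Derivation V B B, ∀ a, D' (algebraMap A B a) = algebraMap A B (D a) := by
  obtain ⟨D', hD'⟩ := exists_deriv_of_lift (B := B) (R := B) S
    (liftOfDeriv ((Algebra.linearMap A B).compDer D)) (fun a => by simp)
  exact ⟨D', fun a => by rw [hD']; simp⟩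

/-- A derivation killing the base of a formally unramified algebra is zero. -/
lemma derivation_eq_zero_of_formallyUnramified {C B N : Type*} [CommRing C] [CommRing B]
    [Algebra C B] [Algebra.FormallyUnramified C B] [Algebra V B] [AddCommGroup N] [Module B N]
    [Module V N] (δ : Derivation V B N) (h : ∀ c, δ (algebraMap C B c) = 0) (b : B) : δ b = 0 := by
  letI : Module C N := Module.compHom N (algebraMap C B)
  haveI : IsScalarTower C B N := IsScalarTower.of_algebraMap_smul fun _ _ => rfl
  let δ' : Derivation C B N := Derivation.mk'
    { toFun := δ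
      map_add' := map_add δ
      map_smul' := fun c b => by
        rw [Algebra.smul_def, Derivation.leibniz, h, smul_zero, add_zero, RingHom.id_apply,
          IsScalarTower.algebraMap_smul] }
    fun a b => δ.leibniz a b
  have : δ' = 0 := by
    rw [← δ'.liftKaehlerDifferential_comp,
      Subsingleton.elim δ'.liftKaehlerDifferential 0]
    ext; simp
  exact DFunLike.congr_fun this b

end NodeDiffLib
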