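import Groth.Agent.NodeDiffLib.Deriv
import Mathlib.RingTheory.DiscreteValuationRing.Basic
import Mathlib.RingTheory.LocalRing.ResidueField.Basic
import Mathlib.RingTheory.QuasiFinite.Basic
import Mathlib.RingTheory.RingHom.QuasiFinite
import Mathlib.RingTheory.RingHom.Etale
import Mathlib.RingTheory.Algebraic.MvPolynomial
import Mathlib.RingTheory.Localization.FractionRing
import Mathlib.Algebra.MvPolynomial.Division
import Mathlib.Algebra.Polynomial.Degree.Lemmas

/-!
A generically étale function on an open neighbourhood of the node of `V[x,y]/(xy - ϖ)` has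
differential zero on one branch of the special fibre.
-/

set_option autoImplicit false

open Polynomial

namespace NodeDiffLib

universe u

variable {V : Type u} [CommRing V] (ϖ : V)

/-- The ring `V[x,y]/(xy - ϖ)`. -/
abbrev Q : Type u :=
  MvPolynomial (Fin 2) V ⧸
    Ideal.span {(MvPolynomial.X 0 * MvPolynomial.X 1 - MvPolynomial.C ϖ : MvPolynomial (Fin 2) V)}

/-- The coordinates on `Q`. -/
noncomputable def g (l : Fin 2) : Q ϖ := Ideal.Quotient.mk _ (MvPolynomial.X l)

lemma g_mul_g : g ϖ 0 * g ϖ 1 = algebraMap V (Q ϖ) ϖ := by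
  rw [g, g, ← map_mul, IsScalarTower.algebraMap_apply V (MvPolynomial (Fin 2) V) (Q ϖ),
    MvPolynomial.algebraMap_eq]
  exact Ideal.Quotient.mk_eq_mk_iff_sub_mem _ _ |>.mpr (Ideal.mem_span_singleton_self _)

lemma g_mul_g' {i j : Fin 2} (hij : i ≠ j) : g ϖ i * g ϖ j = algebraMap V (Q ϖ) ϖ := by
  fin_cases i <;> fin_cases j
  · exact absurd rfl hij
  · exact g_mul_g ϖ
  · rw [mul_comm]; exact g_mul_g ϖ
  · exact absurd rfl hij

lemma g_mul_cancel [IsDomain V] (hϖ : ϖ ≠ 0) (j : Fin 2) (q : Q ϖ) (hq : g ϖ j * q = 0) :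
    q = 0 := by
  obtain ⟨p, rfl⟩ := Ideal.Quotient.mk_surjective q
  rw [g, ← map_mul, Ideal.Quotient.eq_zero_iff_mem, Ideal.mem_span_singleton] at hq
  obtain ⟨s, hs⟩ := hq
  have hdvd : MvPolynomial.X j ∣
      (MvPolynomial.X 0 * MvPolynomial.X 1 - MvPolynomial.C ϖ : MvPolynomial (Fin 2) V) * s :=
    ⟨p, hs.symm⟩
  rcases (MvPolynomial.X_prime (i := j)).dvd_or_dvd hdvd with h | ⟨s', hs'⟩
  · obtain ⟨c, hc⟩ := h
    have := congrArg (MvPolynomial.eval (0 : Fin 2 → V)) hc
    simp at this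
    exact absurd this hϖ
  · rw [Ideal.Quotient.eq_zero_iff_mem, Ideal.mem_span_singleton]
    exact ⟨s', mul_left_cancel₀ (MvPolynomial.X_ne_zero j) (by rw [hs, hs']; ring)⟩

variable [IsDomain V] [IsDiscreteValuationRing V]

local notation "k" => IsLocalRing.ResidueField V

lemma residue_ϖ {ϖ : V} (hϖ : Irreducible ϖ) : IsLocalRing.residue V ϖ = 0 := by
  rw [IsLocalRing.residue_eq_zero_iff, hϖ.maximalIdeal_eq]
  exact Ideal.mem_span_singleton_self _

/-- Restriction to the branch `x_j = 0` of the special fibre. -/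
noncomputable def rho {ϖ : V} (hϖ : Irreducible ϖ) (j : Fin 2) : Q ϖ →ₐ[V] (k)[X] :=
  Ideal.Quotient.liftₐ _ (MvPolynomial.aeval fun l => if l = j then 0 else X) (by
    intro p hp
    obtain ⟨c, rfl⟩ := Ideal.mem_span_singleton.mp hp
    rw [map_mul, map_sub, map_mul, MvPolynomial.aeval_X, MvPolynomial.aeval_X, MvPolynomial.aeval_C]
    have : algebraMap V (k)[X] ϖ = 0 := by
      rw [IsScalarTower.algebraMap_apply V k (k)[X]]
      simp [residue_ϖ hϖ]
    fin_cases j <;> simp [this])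

lemma rho_mk {ϖ : V} (hϖ : Irreducible ϖ) (j : Fin 2) (p : MvPolynomial (Fin 2) V) :
    rho hϖ j (Ideal.Quotient.mk _ p) =
      MvPolynomial.aeval (fun l => if l = j then (0 : (k)[X]) else X) p :=
  rfl

lemma rho_g_self {ϖ : V} (hϖ : Irreducible ϖ) (j : Fin 2) : rho hϖ j (g ϖ j) = 0 := by
  simp [g, rho_mk]

lemma rho_g {ϖ : V} (hϖ : Irreducible ϖ) {i j : Fin 2} (hij : i ≠ j) :
    rho hϖ j (g ϖ i) = X := by
  simp [g, rho_mk, hij]

lemma mem_of_rho_eq_zero {ϖ : V} (hϖ : Irreducible ϖ) {i j : Fin 2} (hij : i ≠ j) (q : Q ϖ)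
    (hq : rho hϖ j q = 0) : g ϖ j ∣ q := by
  classical
  obtain ⟨p, rfl⟩ := Ideal.Quotient.mk_surjective q
  let back : V[X] →ₐ[V] MvPolynomial (Fin 2) V := Polynomial.aeval (MvPolynomial.X i)
  let r0 : V[X] := MvPolynomial.aeval (fun l => if l = j then (0 : V[X]) else X) p
  have h1 : ∀ p : MvPolynomial (Fin 2) V, MvPolynomial.X j ∣
      p - back (MvPolynomial.aeval (fun l => if l = j then (0 : V[X]) else X) p) := by
    intro p
    induction p using MvPolynomial.induction_on with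
    | C a => simp [back]
    | add a b ha hb =>
      rw [map_add, map_add]
      convert dvd_add ha hb using 1
      ring
    | mul_X a l ha =>
      rw [map_mul, map_mul, MvPolynomial.aeval_X]
      by_cases hl : l = j
      · subst hl
        simp
      · have hli : l = i := by omega
        subst hli
        simp only [hl, if_false, back, Polynomial.aeval_X]
        rw [← sub_mul]
        exact dvd_mul_of_dvd_left ha _
  have h2 : r0.map (IsLocalRing.residue V) = 0 := by
    rw [← hq, rho_mk]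
    show Polynomial.mapAlgHom (Algebra.ofId V k) r0 = _
    rw [← AlgHom.comp_apply, MvPolynomial.comp_aeval]
    congr 2
    funext l
    split_ifs <;> simp
  have h3 : C ϖ ∣ r0 := by
    rw [C_dvd_iff_dvd_coeff]
    intro m
    have := congrArg (fun P => P.coeff m) h2
    simp only [coeff_map, coeff_zero, IsLocalRing.residue_eq_zero_iff] at this
    rwa [hϖ.maximalIdeal_eq, Ideal.mem_span_singleton] at this
  obtain ⟨s, hs⟩ := h3
  obtain ⟨c, hc⟩ := h1 p
  refine ⟨Ideal.Quotient.mk _ c + g ϖ i * Ideal.Quotient.mk _ (back s), ?_⟩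
  have e : p = MvPolynomial.X j * c + MvPolynomial.C ϖ * back s := by
    have : back r0 = MvPolynomial.C ϖ * back s := by
      rw [hs, map_mul]; simp [back]
    linear_combination hc + this
  rw [e, map_add, map_mul, map_mul, mul_add, ← mul_assoc, g_mul_g' ϖ hij.symm,
    IsScalarTower.algebraMap_apply V (MvPolynomial (Fin 2) V) (Q ϖ)]
  rfl

lemma mem_span_of_coeff_zero {ϖ : V} (hϖ : Irreducible ϖ) {i j : Fin 2} (hij : i ≠ j) (q : Q ϖ)
    (hq : (rho hϖ j q).coeff 0 = 0) : q ∈ Ideal.span ({g ϖ 0, g ϖ 1} : Set (Q ϖ)) := by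
  classical
  obtain ⟨p, rfl⟩ := Ideal.Quotient.mk_surjective q
  have hX : ∀ l, g ϖ l ∈ Ideal.span ({g ϖ 0, g ϖ 1} : Set (Q ϖ)) := fun l => by
    fin_cases l
    · exact Ideal.subset_span (by simp)
    · exact Ideal.subset_span (by simp)
  have key : ∀ p : MvPolynomial (Fin 2) V,
      (Ideal.Quotient.mk _ p : Q ϖ) - algebraMap V (Q ϖ) (MvPolynomial.constantCoeff p) ∈
        Ideal.span ({g ϖ 0, g ϖ 1} : Set (Q ϖ)) ∧
      (rho hϖ j (Ideal.Quotient.mk _ p)).coeff 0 =
        IsLocalRing.residue V (MvPolynomial.constantCoeff p) := by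
    intro p
    induction p using MvPolynomial.induction_on with
    | C a =>
      refine ⟨?_, by simp [rho_mk, IsScalarTower.algebraMap_apply V k (k)[X]]⟩
      simp [IsScalarTower.algebraMap_apply V (MvPolynomial (Fin 2) V) (Q ϖ)]
    | add a b ha hb =>
      refine ⟨?_, by simp only [map_add, coeff_add, ha.2, hb.2]⟩
      convert Ideal.add_mem _ ha.1 hb.1 using 1
      simp only [map_add]; ring
    | mul_X a l ha =>
      refine ⟨?_, ?_⟩
      · simp only [map_mul, MvPolynomial.constantCoeff_X, mul_zero, map_zero, sub_zero]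
        exact Ideal.mul_mem_left _ _ (hX l)
      · rw [map_mul (Ideal.Quotient.mk _), map_mul, mul_coeff_zero]
        by_cases hl : l = j <;> simp [rho_mk, hl]
  obtain ⟨k1, k2⟩ := key p
  rw [k2, IsLocalRing.residue_eq_zero_iff, hϖ.maximalIdeal_eq, Ideal.mem_span_singleton] at hq
  obtain ⟨c, hc⟩ := hq
  rw [hc, map_mul, ← g_mul_g, mul_assoc] at k1
  simpa using Ideal.add_mem _ k1 (Ideal.mul_mem_right (g ϖ 1 * algebraMap V (Q ϖ) c) _ (hX 0))

variable {ϖ}

/-- A proper fraction with zero derivative is constant. -/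
lemma exists_const {K : Type*} [Field K] [CharZero K] (p q : K[X]) (hq : q ≠ 0)
    (h : derivative p * q = p * derivative q) : ∃ c, p = C c * q := by
  by_cases hn : p.coeff q.natDegree = 0 ∧ p.natDegree ≤ q.natDegree
  · refine ⟨0, ?_⟩
    by_contra hp
    simp only [map_zero, zero_mul] at hp
    have hlt : p.natDegree < q.natDegree := lt_of_le_of_ne hn.2 fun e =>
      hp (leadingCoeff_eq_zero.mp (by rw [leadingCoeff, e, hn.1]))
    exact absurd h (ne_of_natDegree_ne hp hq hlt.ne)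
  · refine ⟨p.coeff q.natDegree / q.leadingCoeff, ?_⟩
    set c := p.coeff q.natDegree / q.leadingCoeff
    set p₁ := p - C c * q
    have h₁ : derivative p₁ * q = p₁ * derivative q := by
      simp only [p₁, derivative_sub, derivative_C_mul]
      linear_combination h
    by_contra hne
    have hp₁ : p₁ ≠ 0 := sub_ne_zero.mpr hne
    refine absurd h₁ (ne_of_natDegree_ne hp₁ hq fun e => hp₁ (leadingCoeff_eq_zero.mp ?_))
    rw [leadingCoeff, e]
    simp [p₁, c, leadingCoeff_ne_zero.mpr hq]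
where
  ne_of_natDegree_ne {p q : K[X]} (hp : p ≠ 0) (hq : q ≠ 0) (hne : p.natDegree ≠ q.natDegree) :
      derivative p * q ≠ p * derivative q := by
    intro h
    have e : X * derivative p * q = p * (X * derivative q) := by linear_combination X * h
    have hc := congrArg (fun P => P.coeff (p.natDegree + q.natDegree)) e
    have hle : ∀ r : K[X], (X * derivative r).natDegree ≤ r.natDegree := by
      intro r
      refine natDegree_le_iff_coeff_eq_zero.mpr fun N hN => ?_
      cases N with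
      | zero => simp
      | succ N => simp [coeff_X_mul, coeff_derivative, coeff_eq_zero_of_natDegree_lt hN]
    have hco : ∀ r : K[X], (X * derivative r).coeff r.natDegree = r.natDegree * r.leadingCoeff := by
      intro r
      rw [leadingCoeff]
      cases r.natDegree with
      | zero => simp
      | succ N => simp [coeff_X_mul, coeff_derivative]; ring
    simp only [coeff_mul_add_eq_of_natDegree_le (hle p) le_rfl,
      coeff_mul_add_eq_of_natDegree_le (le_refl p.natDegree) (hle q), hco] at hc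
    refine hne ?_
    have : ((p.natDegree : K) - q.natDegree) * (p.leadingCoeff * q.leadingCoeff) = 0 := by
      simp only [leadingCoeff] at hc ⊢
      linear_combination hc
    exact_mod_cast sub_eq_zero.mp ((mul_eq_zero.mp this).resolve_right
      (mul_ne_zero (leadingCoeff_ne_zero.mpr hp) (leadingCoeff_ne_zero.mpr hq)))

variable (hϖ : Irreducible ϖ) (h : Q ϖ) (hh : h ∉ Ideal.span ({g ϖ 0, g ϖ 1} : Set (Q ϖ)))

local notation "𝔅" => Localization.Away h

/-- The coordinates on the open set. -/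
noncomputable def gB (l : Fin 2) : 𝔅 := algebraMap (Q ϖ) 𝔅 (g ϖ l)

include hϖ in
lemma gB_mul_cancel (j : Fin 2) (z : 𝔅) (hz : gB h j * z = 0) : z = 0 := by
  obtain ⟨⟨q, s⟩, hq⟩ := IsLocalization.surj (Submonoid.powers h) z
  have h1 : algebraMap (Q ϖ) 𝔅 (g ϖ j * q) = algebraMap (Q ϖ) 𝔅 0 := by
    rw [map_mul, ← hq, ← mul_assoc, show algebraMap (Q ϖ) 𝔅 (g ϖ j) * z = 0 from hz, zero_mul,
      map_zero]
  obtain ⟨c, hc⟩ := IsLocalization.exists_of_eq (M := Submonoid.powers h) h1
  have : (c : Q ϖ) * q = 0 := g_mul_cancel ϖ hϖ.ne_zero j _ (by linear_combination hc)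
  have h2 : algebraMap (Q ϖ) 𝔅 q = 0 :=
    (IsLocalization.map_eq_zero_iff (Submonoid.powers h) 𝔅 q).mpr ⟨c, this⟩
  rw [h2] at hq
  exact (IsLocalization.map_units 𝔅 s).mul_left_eq_zero.mp hq

lemma exists_deriv {R : Type u} [CommRing R] [Algebra V R] [Algebra 𝔅 R] [IsScalarTower V 𝔅 R]
    (v : Fin 2 → R) (hv : v 0 * algebraMap 𝔅 R (gB h 1) + algebraMap 𝔅 R (gB h 0) * v 1 = 0) :
    ∃ D : Derivation V 𝔅 R, ∀ l, D (gB h l) = v l := by
  let φ₁ : MvPolynomial (Fin 2) V →ₐ[V] TrivSqZeroExt R R :=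
    MvPolynomial.aeval fun l => TrivSqZeroExt.inl (algebraMap 𝔅 R (gB h l)) + TrivSqZeroExt.inr (v l)
  let φ₀ : Q ϖ →ₐ[V] TrivSqZeroExt R R := Ideal.Quotient.liftₐ _ φ₁ (by
    intro p hp
    obtain ⟨c, rfl⟩ := Ideal.mem_span_singleton.mp hp
    rw [map_mul]
    have : φ₁ (MvPolynomial.X 0 * MvPolynomial.X 1 - MvPolynomial.C ϖ) = 0 := by
      ext
      · simp only [φ₁, map_sub, map_mul, MvPolynomial.aeval_X, MvPolynomial.aeval_C,
          TrivSqZeroExt.algebraMap_eq_inl', TrivSqZeroExt.fst_sub, TrivSqZeroExt.fst_mul,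
          TrivSqZeroExt.fst_add, TrivSqZeroExt.fst_inl, TrivSqZeroExt.fst_inr, add_zero,
          TrivSqZeroExt.fst_zero]
        rw [← map_mul, gB, gB, ← map_mul, g_mul_g, ← IsScalarTower.algebraMap_apply V (Q ϖ) 𝔅,
          ← IsScalarTower.algebraMap_apply V 𝔅 R, sub_self]
      · simp [φ₁, TrivSqZeroExt.algebraMap_eq_inl']
        linear_combination hv
    rw [this, zero_mul])
  obtain ⟨D, hD⟩ := exists_deriv_of_lift (B := 𝔅) (R := R) (Submonoid.powers h) φ₀ (by
    intro a
    obtain ⟨p, rfl⟩ := Ideal.Quotient.mk_surjective a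
    show (φ₁ p).fst = _
    induction p using MvPolynomial.induction_on with
    | C a =>
      rw [MvPolynomial.aeval_C, TrivSqZeroExt.algebraMap_eq_inl', TrivSqZeroExt.fst_inl]
      show algebraMap V R a = algebraMap 𝔅 R (algebraMap (Q ϖ) 𝔅 (algebraMap V (Q ϖ) a))
      rw [← IsScalarTower.algebraMap_apply V (Q ϖ) 𝔅, ← IsScalarTower.algebraMap_apply V 𝔅 R]
    | add a b ha hb => simp [map_add, ha, hb]
    | mul_X a l ha =>
      simp only [map_mul, TrivSqZeroExt.fst_mul, ha]
      simp [φ₁, gB, g])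
  refine ⟨D, fun l => ?_⟩
  rw [gB, hD]
  show (φ₁ (MvPolynomial.X l)).snd = _
  simp [φ₁]

lemma deriv_ext {N : Type*} [AddCommGroup N] [Module 𝔅 N] [Module V N]
    (D₁ D₂ : Derivation V 𝔅 N) (hD : ∀ l, D₁ (gB h l) = D₂ (gB h l)) : D₁ = D₂ := by
  refine derivation_eq_of_localization (Submonoid.powers h) D₁ D₂ fun a => ?_
  obtain ⟨p, rfl⟩ := Ideal.Quotient.mk_surjective a
  induction p using MvPolynomial.induction_on with
  | C a =>
    rw [show (Ideal.Quotient.mk _ (MvPolynomial.C a) : Q ϖ) = algebraMap V (Q ϖ) a from rfl,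
      ← IsScalarTower.algebraMap_apply, Derivation.map_algebraMap, Derivation.map_algebraMap]
  | add a b ha hb => simp only [map_add, ha, hb]
  | mul_X a l ha =>
    simp only [map_mul, Derivation.leibniz, ha]
    rw [show algebraMap (Q ϖ) 𝔅 (Ideal.Quotient.mk _ (MvPolynomial.X l)) = gB h l from rfl, hD]

/-- The field of rational functions on a branch. -/
local notation "L" => FractionRing ((IsLocalRing.ResidueField V)[X])

include hh in
lemma rho_h_ne_zero {i j : Fin 2} (hij : i ≠ j) : rho hϖ j h ≠ 0 := fun e =>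
  hh (mem_span_of_coeff_zero hϖ hij h (by rw [e, coeff_zero]))

/-- Restriction to a branch of the special fibre, on the open set. -/
noncomputable def sigma {i j : Fin 2} (hij : i ≠ j) : 𝔅 →ₐ[V] L :=
  IsLocalization.Away.liftAlgHom h
    (f := (IsScalarTower.toAlgHom V _ L).comp (rho hϖ j))
    (isUnit_iff_ne_zero.mpr ((map_ne_zero_iff _ (IsFractionRing.injective _ L)).mpr
      (rho_h_ne_zero hϖ h hh hij)))

@[simp]
lemma sigma_algebraMap {i j : Fin 2} (hij : i ≠ j) (q : Q ϖ) :
    sigma hϖ h hh hij (algebraMap (Q ϖ) 𝔅 q) = algebraMap _ L (rho hϖ j q) := by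
  simp [sigma, IsLocalization.Away.liftAlgHom]

lemma sigma_eq_zero {i j : Fin 2} (hij : i ≠ j) (z : 𝔅) :
    sigma hϖ h hh hij z = 0 ↔ gB h j ∣ z := by
  constructor
  · intro hz
    obtain ⟨⟨q, s⟩, hq⟩ := IsLocalization.surj (Submonoid.powers h) z
    have := congrArg (sigma hϖ h hh hij) hq
    rw [map_mul, hz, zero_mul, sigma_algebraMap, eq_comm,
      map_eq_zero_iff _ (IsFractionRing.injective _ L)] at this
    have h2 := map_dvd (algebraMap (Q ϖ) 𝔅) (mem_of_rho_eq_zero hϖ hij q this)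
    rw [← hq, (IsLocalization.map_units 𝔅 s).dvd_mul_right] at h2
    exact h2
  · rintro ⟨c, rfl⟩
    simp [gB, rho_g_self]

lemma sigma_gB {i j : Fin 2} (hij : i ≠ j) :
    sigma hϖ h hh hij (gB h i) = algebraMap (IsLocalRing.ResidueField V)[X] L X := by
  simp [gB, rho_g hϖ hij]

include hϖ hh in
theorem exists_component (f : 𝔅)
    (hf : ((algebraMap 𝔅 (Localization.Away (algebraMap V 𝔅 ϖ))).comp
      (Polynomial.aeval f : V[X] →ₐ[V] 𝔅).toRingHom).Etale) :
    ∃ i j : Fin 2, i ≠ j ∧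
      ∃ T : Derivation V 𝔅 (𝔅 ⧸ Ideal.span {gB h j}),
        (∀ l, T (gB h l) = if l = j then 0 else 1) ∧ T f = 0 := by
  obtain ⟨D, hD⟩ := exists_deriv h (R := 𝔅) ![gB h 0, -gB h 1] (by simp)
  have hD0 : D (gB h 0) = gB h 0 := hD 0
  have hD1 : D (gB h 1) = -gB h 1 := hD 1
  -- the two branch derivations
  have hT : ∀ j : Fin 2, ∃ T : Derivation V 𝔅 (𝔅 ⧸ Ideal.span {gB h j}),
      ∀ l, T (gB h l) = if l = j then 0 else 1 := by
    intro j
    refine exists_deriv h (fun l => if l = j then 0 else 1) ?_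
    have hj : (Ideal.Quotient.mk (Ideal.span {gB h j})) (gB h j) = 0 :=
      Ideal.Quotient.eq_zero_iff_mem.mpr (Ideal.mem_span_singleton_self _)
    fin_cases j <;> simpa [Ideal.Quotient.algebraMap_eq] using hj
  have hrel : ∀ (i j : Fin 2), i ≠ j → ∀ (T : Derivation V 𝔅 (𝔅 ⧸ Ideal.span {gB h j})),
      (∀ l, T (gB h l) = if l = j then 0 else 1) → ∀ b,
      Ideal.Quotient.mk (Ideal.span {gB h j}) (D b) =
        Ideal.Quotient.mk _ (D (gB h i)) * T b := by
    intro i j hij T hT' b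
    have e := deriv_ext h ((Algebra.linearMap 𝔅 (𝔅 ⧸ Ideal.span {gB h j})).compDer D)
      ((Ideal.Quotient.mk (Ideal.span {gB h j}) (D (gB h i))) • T) (fun l => by
        show Ideal.Quotient.mk (Ideal.span {gB h j}) (D (gB h l)) = Ideal.Quotient.mk (Ideal.span {gB h j}) (D (gB h i)) * T (gB h l)
        rw [hT']
        by_cases hl : l = j
        · subst hl
          rw [if_pos rfl, mul_zero, Ideal.Quotient.eq_zero_iff_mem]
          fin_cases l
          · show D (gB h 0) ∈ _
            rw [hD0]; exact Ideal.mem_span_singleton_self _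
          · show D (gB h 1) ∈ _
            rw [hD1]; exact neg_mem (Ideal.mem_span_singleton_self _)
        · have hli : l = i := by omega
          rw [if_neg hl, mul_one, hli])
    exact DFunLike.congr_fun e b
  -- `D f` becomes a unit on the generic fibre
  have hunit : IsUnit (algebraMap 𝔅 (Localization.Away (algebraMap V 𝔅 ϖ)) (D f)) := by
    let B' := Localization.Away (algebraMap V 𝔅 ϖ)
    obtain ⟨D', hD'⟩ := exists_extend (B := B') (Submonoid.powers (algebraMap V 𝔅 ϖ)) D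
    let I : Ideal B' := Ideal.span {algebraMap 𝔅 B' (D f)}
    letI : Algebra V[X] B' :=
      ((algebraMap 𝔅 B').comp (Polynomial.aeval f : V[X] →ₐ[V] 𝔅).toRingHom).toAlgebra
    haveI : Algebra.Etale V[X] B' := hf
    have hzero := derivation_eq_zero_of_formallyUnramified (C := V[X])
      ((Algebra.linearMap B' (B' ⧸ I)).compDer D') (fun c => by
        show (Algebra.linearMap B' (B' ⧸ I)) (D' (algebraMap 𝔅 B' (Polynomial.aeval f c))) = 0
        rw [hD', Derivation.comp_aeval_eq, Algebra.linearMap_apply, Ideal.Quotient.algebraMap_eq,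
          Ideal.Quotient.eq_zero_iff_mem, smul_eq_mul, map_mul]
        exact I.mul_mem_left _ (Ideal.mem_span_singleton_self _))
      (algebraMap 𝔅 B' (gB h 0))
    change (Algebra.linearMap B' (B' ⧸ I)) (D' _) = 0 at hzero
    rw [hD', hD0, Algebra.linearMap_apply, Ideal.Quotient.algebraMap_eq,
      Ideal.Quotient.eq_zero_iff_mem, Ideal.mem_span_singleton] at hzero
    refine isUnit_of_dvd_unit (hzero.mul_right (algebraMap 𝔅 B' (gB h 1))) ?_
    rw [← map_mul, gB, gB, ← map_mul, g_mul_g, ← IsScalarTower.algebraMap_apply V (Q ϖ) 𝔅]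
    exact IsLocalization.Away.algebraMap_isUnit _
  obtain ⟨w, hw⟩ := hunit.exists_right_inv
  obtain ⟨⟨b, ⟨_, n, rfl⟩⟩, hb⟩ :=
    IsLocalization.surj (Submonoid.powers (algebraMap V 𝔅 ϖ)) w
  have hϖB : algebraMap V 𝔅 ϖ = gB h 0 * gB h 1 := by
    rw [gB, gB, ← map_mul, g_mul_g, ← IsScalarTower.algebraMap_apply]
  obtain ⟨m, b', hb'⟩ : ∃ (m : ℕ) (b' : 𝔅), b' * D f = algebraMap V 𝔅 ϖ ^ m := by
    have h1 : algebraMap 𝔅 (Localization.Away (algebraMap V 𝔅 ϖ)) (b * D f) =
        algebraMap 𝔅 _ (algebraMap V 𝔅 ϖ ^ n) := by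
      rw [map_mul, ← hb]
      linear_combination (algebraMap 𝔅 (Localization.Away (algebraMap V 𝔅 ϖ))
        (algebraMap V 𝔅 ϖ ^ n)) * hw
    obtain ⟨⟨_, l, rfl⟩, hl⟩ :=
      IsLocalization.exists_of_eq (M := Submonoid.powers (algebraMap V 𝔅 ϖ)) h1
    exact ⟨l + n, algebraMap V 𝔅 ϖ ^ l * b, by rw [mul_assoc, pow_add]; exact hl⟩
  -- `D f` is divisible by one of the coordinates
  have hdiv : gB h 0 ∣ D f ∨ gB h 1 ∣ D f := by
    by_contra hno
    push Not at hno
    have prime : ∀ (i j : Fin 2), i ≠ j → ¬ gB h j ∣ D f → ∀ c, gB h j ∣ c * D f → gB h j ∣ c := by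
      intro i j hij hnd c hc
      rw [← sigma_eq_zero hϖ h hh hij] at hnd hc ⊢
      rw [map_mul] at hc
      exact (mul_eq_zero.mp hc).resolve_right hnd
    have key : ∀ (m : ℕ) (c : 𝔅), c * D f = algebraMap V 𝔅 ϖ ^ m → IsUnit (D f) := by
      intro m
      induction m with
      | zero => exact fun c hc => IsUnit.of_mul_eq_one_right c (by simpa using hc)
      | succ m ih =>
        intro c hc
        obtain ⟨c₁, rfl⟩ := prime 1 0 (by decide) hno.1 c
          ⟨gB h 1 * algebraMap V 𝔅 ϖ ^ m, by rw [hc, pow_succ, hϖB]; ring⟩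
        have h1 : c₁ * D f = gB h 1 * algebraMap V 𝔅 ϖ ^ m := sub_eq_zero.mp
          (gB_mul_cancel hϖ h 0 _ (by rw [pow_succ] at hc; linear_combination hc + (algebraMap V 𝔅 ϖ ^ m) * hϖB))
        obtain ⟨c₂, rfl⟩ := prime 0 1 (by decide) hno.2 c₁ ⟨_, h1⟩
        exact ih c₂ (sub_eq_zero.mp (gB_mul_cancel hϖ h 1 _ (by linear_combination h1)))
    have hu := key m b' hb'
    -- but `D f` lies in the ideal of the node
    have hmem : D f ∈ Ideal.span ({gB h 0, gB h 1} : Set 𝔅) := by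
      obtain ⟨T, hT'⟩ := hT 0
      obtain ⟨t, ht⟩ := Ideal.Quotient.mk_surjective (T f)
      have := hrel 1 0 (by decide) T hT' f
      rw [hD1, ← ht, ← map_mul, Ideal.Quotient.mk_eq_mk_iff_sub_mem,
        Ideal.mem_span_singleton] at this
      obtain ⟨a, ha⟩ := this
      rw [show D f = a * gB h 0 + (-t) * gB h 1 by linear_combination ha]
      exact Ideal.mem_span_pair.mpr ⟨a, -t, rfl⟩
    have htop := Ideal.eq_top_of_isUnit_mem _ hmem hu
    have hmap : Ideal.span ({gB h 0, gB h 1} : Set 𝔅) =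
        (Ideal.span ({g ϖ 0, g ϖ 1} : Set (Q ϖ))).map (algebraMap (Q ϖ) 𝔅) := by
      rw [Ideal.map_span, Set.image_pair]; rfl
    rw [hmap] at htop
    obtain ⟨q, ⟨e, rfl⟩, hq⟩ := Set.not_disjoint_iff.mp fun hd =>
      (IsLocalization.map_algebraMap_ne_top_iff_disjoint (Submonoid.powers h) 𝔅 _).mpr hd htop
    refine hh ?_
    have hspanX : ∀ q ∈ Ideal.span ({g ϖ 0, g ϖ 1} : Set (Q ϖ)), (rho hϖ 0 q).coeff 0 = 0 := by
      intro q hq
      obtain ⟨a, b, rfl⟩ := Ideal.mem_span_pair.mp hq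
      simp [rho_g_self, rho_g hϖ (show (1 : Fin 2) ≠ 0 by decide)]
    refine mem_span_of_coeff_zero hϖ (show (1 : Fin 2) ≠ 0 by decide) h ?_
    have h5 := hspanX _ hq
    rw [map_pow, coeff_zero_eq_eval_zero, eval_pow] at h5
    rw [coeff_zero_eq_eval_zero]
    exact eq_zero_of_pow_eq_zero h5
  have concl : ∀ i j : Fin 2, i ≠ j → gB h j ∣ D f →
      ∃ T : Derivation V 𝔅 (𝔅 ⧸ Ideal.span {gB h j}),
        (∀ l, T (gB h l) = if l = j then 0 else 1) ∧ T f = 0 := by
    intro i j hij hj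
    obtain ⟨T, hT'⟩ := hT j
    refine ⟨T, hT', ?_⟩
    obtain ⟨t, ht⟩ := Ideal.Quotient.mk_surjective (T f)
    have h0 := hrel i j hij T hT' f
    rw [Ideal.Quotient.eq_zero_iff_mem.mpr (Ideal.mem_span_singleton.mpr hj), ← ht, ← map_mul,
      eq_comm, Ideal.Quotient.eq_zero_iff_mem, Ideal.mem_span_singleton,
      ← sigma_eq_zero hϖ h hh hij, map_mul, mul_eq_zero] at h0
    rw [← ht, Ideal.Quotient.eq_zero_iff_mem, Ideal.mem_span_singleton, ← sigma_eq_zero hϖ h hh hij]
    refine h0.resolve_left fun e => ?_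
    have hsD : sigma hϖ h hh hij (D (gB h i)) ≠ 0 := by
      have hX : algebraMap (IsLocalRing.ResidueField V)[X] L X ≠ 0 :=
        (map_ne_zero_iff _ (IsFractionRing.injective _ L)).mpr X_ne_zero
      fin_cases i
      · show sigma hϖ h hh hij (D (gB h 0)) ≠ 0
        rw [hD0]; exact (sigma_gB hϖ h hh hij).trans_ne hX
      · show sigma hϖ h hh hij (D (gB h 1)) ≠ 0
        rw [hD1, map_neg, neg_ne_zero]; exact (sigma_gB hϖ h hh hij).trans_ne hX
    exact hsD e
  rcases hdiv with h0 | h1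
  · exact ⟨1, 0, by decide, concl 1 0 (by decide) h0⟩
  · exact ⟨0, 1, by decide, concl 0 1 (by decide) h1⟩

/-- The differential on a branch is `T` times the differential of the coordinate. -/
lemma D_eq_smul {i j : Fin 2} (hij : i ≠ j) (T : Derivation V 𝔅 (𝔅 ⧸ Ideal.span {gB h j}))
    (hT : ∀ l, T (gB h l) = if l = j then 0 else 1) (b : 𝔅) :
    KaehlerDifferential.D V (𝔅 ⧸ Ideal.span {gB h j}) (Ideal.Quotient.mk _ b) =
      T b • KaehlerDifferential.D V (𝔅 ⧸ Ideal.span {gB h j}) (Ideal.Quotient.mk _ (gB h i)) := by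
  have e := deriv_ext h
    ((KaehlerDifferential.D V (𝔅 ⧸ Ideal.span {gB h j})).compAlgebraMap 𝔅)
    (((LinearMap.toSpanSingleton _ _
      (KaehlerDifferential.D V (𝔅 ⧸ Ideal.span {gB h j}) (Ideal.Quotient.mk _ (gB h i)))).restrictScalars 𝔅).compDer T)
    (fun l => by
      show KaehlerDifferential.D V (𝔅 ⧸ Ideal.span {gB h j}) (Ideal.Quotient.mk _ (gB h l)) =
        LinearMap.toSpanSingleton (𝔅 ⧸ Ideal.span {gB h j}) _
          (KaehlerDifferential.D V (𝔅 ⧸ Ideal.span {gB h j}) (Ideal.Quotient.mk _ (gB h i)))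
          (T (gB h l))
      rw [hT]
      by_cases hl : l = j
      · subst hl
        rw [if_pos rfl, map_zero,
          Ideal.Quotient.eq_zero_iff_mem.mpr (Ideal.mem_span_singleton_self _), map_zero]
      · have hli : l = i := by omega
        rw [if_neg hl, LinearMap.toSpanSingleton_apply_one, hli])
  exact DFunLike.congr_fun e b

include hϖ hh in
/-- In residue characteristic zero a function contracting a branch is not quasi-finite. -/
lemma not_quasiFinite [CharZero k] {i j : Fin 2} (hij : i ≠ j) (f : 𝔅)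
    (T : Derivation V 𝔅 (𝔅 ⧸ Ideal.span {gB h j}))
    (hT : ∀ l, T (gB h l) = if l = j then 0 else 1) (hf : T f = 0) :
    ¬ (Polynomial.aeval f : V[X] →ₐ[V] 𝔅).toRingHom.QuasiFinite := by
  let σ' : 𝔅 ⧸ Ideal.span {gB h j} →ₐ[V] L :=
    Ideal.Quotient.liftₐ _ (sigma hϖ h hh hij) fun z hz =>
      (sigma_eq_zero hϖ h hh hij z).mpr (Ideal.mem_span_singleton.mp hz)
  have hσ' : ∀ z, σ' (Ideal.Quotient.mk _ z) = sigma hϖ h hh hij z := fun _ => rfl
  have hsm : ∀ (b : 𝔅) (z : 𝔅 ⧸ Ideal.span {gB h j}),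
      σ' (b • z) = sigma hϖ h hh hij b * σ' z := fun b z => by
    obtain ⟨w, rfl⟩ := Ideal.Quotient.mk_surjective z
    show σ' (Ideal.Quotient.mk _ (b * w)) = _
    rw [hσ', hσ', map_mul]
  have hTQ : ∀ q : Q ϖ, σ' (T (algebraMap (Q ϖ) 𝔅 q)) =
      algebraMap _ L (derivative (rho hϖ j q)) := by
    intro q
    obtain ⟨p, rfl⟩ := Ideal.Quotient.mk_surjective q
    induction p using MvPolynomial.induction_on with
    | C a =>
      rw [show (Ideal.Quotient.mk _ (MvPolynomial.C a) : Q ϖ) = algebraMap V (Q ϖ) a from rfl,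
        ← IsScalarTower.algebraMap_apply, Derivation.map_algebraMap, AlgHom.commutes,
        IsScalarTower.algebraMap_apply V k (k)[X]]
      simp
    | add a b ha hb => simp only [map_add, ha, hb]
    | mul_X a l ha =>
      rw [map_mul, map_mul, Derivation.leibniz, map_add, hsm, hsm, ha, map_mul (rho hϖ j)]
      rw [show algebraMap (Q ϖ) 𝔅 (Ideal.Quotient.mk _ (MvPolynomial.X l)) = gB h l from rfl, hT]
      by_cases hl : l = j
      · subst hl
        rw [if_pos rfl, map_zero σ']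
        simp [gB, rho_g_self, show (Ideal.Quotient.mk _ (MvPolynomial.X l) : Q ϖ) = g ϖ l from rfl]
      · have hli : l = i := by omega
        subst hli
        rw [if_neg hl, map_one σ']
        simp [gB, rho_g hϖ hij, show (Ideal.Quotient.mk _ (MvPolynomial.X l) : Q ϖ) = g ϖ l from rfl]
        ring
  obtain ⟨⟨q, s⟩, hq⟩ := IsLocalization.surj (Submonoid.powers h) f
  have h1 := congrArg (fun z => σ' (T z)) hq
  simp only [Derivation.leibniz, hf, smul_zero, add_zero, hsm, hTQ] at h1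
  have h2 := congrArg (sigma hϖ h hh hij) hq
  simp only [map_mul, sigma_algebraMap] at h2
  have hs0 : rho hϖ j (s : Q ϖ) ≠ 0 := by
    obtain ⟨_, n, rfl⟩ := s
    rw [map_pow]; exact pow_ne_zero _ (rho_h_ne_zero hϖ h hh hij)
  obtain ⟨c, hc⟩ := exists_const (rho hϖ j q) (rho hϖ j (s : Q ϖ)) hs0 (by
    refine IsFractionRing.injective _ L ?_
    rw [map_mul, map_mul, ← h1, ← h2]
    ring)
  have hσf : sigma hϖ h hh hij f = algebraMap _ L (C c) := by
    rw [hc, map_mul] at h2
    exact mul_right_cancel₀ ((map_ne_zero_iff _ (IsFractionRing.injective _ L)).mpr hs0) h2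
  intro hqf
  letI : Algebra V[X] 𝔅 := (Polynomial.aeval f : V[X] →ₐ[V] 𝔅).toRingHom.toAlgebra
  haveI : Algebra.QuasiFinite V[X] 𝔅 := hqf
  letI : Algebra V[X] k := (Polynomial.aeval c : V[X] →ₐ[V] k).toRingHom.toAlgebra
  let σR : 𝔅 →ₐ[V[X]] L :=
    { (sigma hϖ h hh hij : 𝔅 →+* L) with
      commutes' := fun p => by
        rw [IsScalarTower.algebraMap_apply V[X] k L]
        show sigma hϖ h hh hij (Polynomial.aeval f p) =
          IsScalarTower.toAlgHom V k L (Polynomial.aeval c p)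
        rw [← Polynomial.aeval_algHom_apply, ← Polynomial.aeval_algHom_apply, hσf]
        congr 1 }
  let Φ : TensorProduct V[X] k 𝔅 →ₐ[k] L :=
    Algebra.TensorProduct.lift (Algebra.ofId k L) σR fun _ _ => Commute.all _ _
  haveI : Module.Finite k (TensorProduct V[X] k 𝔅) := Module.Finite.of_quasiFinite
  have hint : IsIntegral k (Φ (1 ⊗ₜ gB h i)) := (IsIntegral.of_finite k _).map Φ
  rw [Algebra.TensorProduct.lift_tmul, map_one, one_mul,
    show σR (gB h i) = sigma hϖ h hh hij (gB h i) from rfl, sigma_gB hϖ h hh hij,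
    ← IsScalarTower.toAlgHom_apply k, isIntegral_algHom_iff _ (IsFractionRing.injective _ L)] at hint
  exact Polynomial.transcendental_X k hint.isAlgebraic

end NodeDiffLib
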